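import Groth.Agent.Refuted.K390.ChartModel
import Groth.Agent.Refuted.K826.Chart

/-!
# Node G2 of the refutations of S15710, S15711, S15718: the chart of a blow-up of an affine scheme

`IsChart I a φ` (helper826) gives an open immersion `Spec C → Bl_I (Spec A)` onto the chart locus
of `a`; the overlap with the chart of `a'` is the basic open of `φ a' / φ a`.
-/

set_option autoImplicit false
universe u

open CategoryTheory AlgebraicGeometry Limits BlowUp

namespace Groth.Agent.Refuted.K390

open Groth.Agent.Divis.BlowChart Groth.Agent.Refuted.K826 ChartModel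

variable {A C : Type u} [CommRing A] [CommRing C] {I : Ideal A} {a : A} {φ : A →+* C}

theorem _root_.Groth.Agent.Refuted.K826.IsChart.isModel (h : IsChart I a φ) : IsModel I a φ := by
  refine ⟨h.reg, h.dvd, ?_, fun c hc => ⟨0, ?_⟩⟩
  · set S : Set C := Set.range φ ∪ {r | ∃ x ∈ I, φ x = φ a * r} with hS
    have key : ∀ (n : ℕ) (x : A), x ∈ I ^ n →
        ∃ c ∈ Subring.closure S, φ a ^ n * c = φ x := by
      intro n
      induction n with
      | zero =>
        intro x _
        exact ⟨φ x, Subring.subset_closure (Or.inl ⟨x, rfl⟩), by rw [pow_zero, one_mul]⟩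
      | succ n ih =>
        intro x hx
        rw [pow_succ] at hx
        induction hx using Submodule.mul_induction_on' with
        | mem_mul_mem y hy z hz =>
          obtain ⟨c, hc, hcy⟩ := ih y hy
          obtain ⟨r, hr⟩ := h.dvd z hz
          refine ⟨c * r, Subring.mul_mem _ hc (Subring.subset_closure (Or.inr ⟨z, hz, hr⟩)), ?_⟩
          rw [map_mul, ← hcy, hr]
          ring
        | add y _ z _ hy hz =>
          obtain ⟨c, hc, hcy⟩ := hy
          obtain ⟨d, hd, hdz⟩ := hz
          exact ⟨c + d, Subring.add_mem _ hc hd, by rw [mul_add, hcy, hdz, map_add]⟩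
    rw [eq_top_iff]
    intro c _
    obtain ⟨n, x, hx, hc⟩ := h.gen c
    obtain ⟨d, hd, hdx⟩ := key n x hx
    have h1 : φ a ^ n * c = φ a ^ n * d := by rw [hc, hdx]
    rw [(mul_cancel_left_mem_nonZeroDivisors (pow_mem h.reg n)).1 h1]
    exact hd
  · rw [pow_zero, one_mul]
    exact h.inj (by rw [hc, map_zero])

variable {X : Scheme.{u}} {b : X ⟶ Spec (CommRingCat.of A)}

/-- G2 -/
theorem exists_chart (hb : IsBlowUp b (idl I)) (h : IsChart I a φ) :
    ∃ (j : Spec (CommRingCat.of C) ⟶ X) (_ : IsOpenImmersion j),
      j ≫ b = Spec.map (CommRingCat.ofHom φ) ∧ j.opensRange = chartLocus I b a :=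
  h.isModel.exists_openImmersion hb h.mem

/-- The overlap of the chart `j` of `a` with the chart locus of `a'` (for G4). -/
theorem preimage_chartLocus (h : IsChart I a φ) (j : Spec (CommRingCat.of C) ⟶ X)
    [IsOpenImmersion j] (hj : j ≫ b = Spec.map (CommRingCat.ofHom φ)) {a' : A} {w : C}
    (hw : φ a' = φ a * w) : j ⁻¹ᵁ chartLocus I b a' = PrimeSpectrum.basicOpen w :=
  h.isModel.preimage_chartLocus h.mem j hj hw

/-- The pulled back ideal is effective Cartier on the chart (for N). -/
theorem isEffCartierIdeal (h : IsChart I a φ) :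
    IsEffCartierIdeal ((idl I).comap (Spec.map (CommRingCat.ofHom φ))) :=
  h.isModel.isEffCartierIdeal h.mem

end Groth.Agent.Refuted.K390
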