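import Groth.Agent.Divis.BlowChart2

/-!
# Charts of the blow-up of an affine scheme: models of the affine blow-up algebra

For `φ : A → R` such that `φ a` is a non-zero-divisor which generates `I R`, `R` is generated over
`A` by the fractions `x / a` (`x ∈ I`) and the kernel of `φ` is killed by powers of `a`, the chart
of `Bl_I (Spec A)` at `a` is `Spec R`.
-/

set_option autoImplicit false
universe u

open CategoryTheory AlgebraicGeometry Limits BlowUp

namespace Groth.Agent.Refuted.K390.ChartModel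

open Groth.Agent.Divis.BlowChart Groth.Agent.Divis.BlowChart2

section Ring

variable {A R : Type u} [CommRing A] [CommRing R] (I : Ideal A) (a : A) (φ : A →+* R)

/-- `φ : A → R` is a model of the affine blow-up algebra `A[I/a]`. -/
structure IsModel : Prop where
  mem_nonZeroDivisors : φ a ∈ nonZeroDivisors R
  exists_mul : ∀ x ∈ I, ∃ r, φ x = φ a * r
  closure_eq : Subring.closure (Set.range φ ∪ {r | ∃ x ∈ I, φ x = φ a * r}) = ⊤
  exists_pow : ∀ c, φ c = 0 → ∃ n : ℕ, a ^ n * c = 0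

variable {I a φ}

/-- The affine blow-up algebra is isomorphic to any model. -/
theorem IsModel.exists_ringEquiv (h : IsModel I a φ) :
    ∃ e : ↥(affineAlgebra A I a) ≃+* R, ∀ c, e (algebraMap _ _ c) = φ c := by
  let L := Localization.Away a
  let L' := Localization.Away (φ a)
  let Φ : L →+* L' := IsLocalization.Away.map L L' φ a
  have hΦ : ∀ c : A, Φ (algebraMap A L c) = algebraMap R L' (φ c) := fun c =>
    IsLocalization.map_eq _ _
  have hinjR : Function.Injective (algebraMap R L') :=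
    IsLocalization.injective L' (Submonoid.powers_le.2 h.mem_nonZeroDivisors)
  have hinj : Function.Injective Φ := by
    rw [injective_iff_map_eq_zero]
    intro z hz
    obtain ⟨⟨c, ⟨_, n, rfl⟩⟩, hc⟩ := IsLocalization.surj (Submonoid.powers a) z
    have h1 : algebraMap R L' (φ c) = 0 := by
      rw [← hΦ, ← hc, map_mul, hz, zero_mul]
    have h2 : φ c = 0 := hinjR (by rw [h1, map_zero])
    obtain ⟨m, hm⟩ := h.exists_pow c h2
    have h3 : algebraMap A L c = 0 := by
      have hu : IsUnit (algebraMap A L (a ^ m)) :=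
        IsLocalization.map_units L (⟨a ^ m, m, rfl⟩ : Submonoid.powers a)
      refine hu.mul_left_cancel ?_
      rw [← map_mul, hm, map_zero, mul_zero]
    rw [h3] at hc
    have hu : IsUnit (algebraMap A L (a ^ n)) :=
      IsLocalization.map_units L (⟨a ^ n, n, rfl⟩ : Submonoid.powers a)
    exact hu.mul_right_cancel (by rw [hc, zero_mul])
  -- the image of a fraction
  have hfrac : ∀ (x : A) (r : R), φ x = φ a * r →
      Φ (IsLocalization.mk' L x ⟨a, Submonoid.mem_powers a⟩) = algebraMap R L' r := by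
    intro x r hr
    have hu : IsUnit (algebraMap R L' (φ a)) :=
      IsLocalization.map_units L' (⟨φ a, Submonoid.mem_powers _⟩ : Submonoid.powers (φ a))
    refine hu.mul_left_cancel ?_
    have : algebraMap A L a * IsLocalization.mk' L x ⟨a, Submonoid.mem_powers a⟩ =
        algebraMap A L x := IsLocalization.mk'_spec' L x ⟨a, Submonoid.mem_powers a⟩
    rw [← hΦ a, ← map_mul, this, hΦ x, hr, map_mul, hΦ a]
  have hrange : (affineAlgebra A I a).toSubring.map Φ = (algebraMap R L').range := by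
    apply le_antisymm
    · rintro _ ⟨z, hz, rfl⟩
      change z ∈ Algebra.adjoin A _ at hz
      induction hz using Algebra.adjoin_induction with
      | mem x hx =>
        obtain ⟨y, hy, rfl⟩ := hx
        obtain ⟨r, hr⟩ := h.exists_mul y hy
        exact ⟨r, (hfrac y r hr).symm⟩
      | algebraMap c => exact ⟨φ c, (hΦ c).symm⟩
      | add x y _ _ hx hy => rw [map_add]; exact Subring.add_mem _ hx hy
      | mul x y _ _ hx hy => rw [map_mul]; exact Subring.mul_mem _ hx hy
    · rw [RingHom.range_eq_map, ← h.closure_eq, RingHom.map_closure, Subring.closure_le]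
      rintro _ ⟨r, hr | ⟨x, hx, hr⟩, rfl⟩
      · obtain ⟨c, rfl⟩ := hr
        exact ⟨algebraMap A L c, (affineAlgebra A I a).algebraMap_mem c, hΦ c⟩
      · exact ⟨_, Algebra.subset_adjoin ⟨x, hx, rfl⟩, hfrac x r hr⟩
  let e₁ : (affineAlgebra A I a).toSubring ≃+* (affineAlgebra A I a).toSubring.map Φ :=
    Subring.equivMapOfInjective _ Φ hinj
  let e₂ : (affineAlgebra A I a).toSubring.map Φ ≃+* (algebraMap R L').range :=
    RingEquiv.subringCongr hrange
  let e₃ : R ≃+* (algebraMap R L').range :=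
    RingEquiv.ofBijective (algebraMap R L').rangeRestrict
      ⟨fun x y hxy => hinjR (congrArg Subtype.val hxy), (algebraMap R L').rangeRestrict_surjective⟩
  refine ⟨(e₁.trans e₂).trans e₃.symm, fun c => ?_⟩
  change e₃.symm (e₂ (e₁ _)) = _
  rw [RingEquiv.symm_apply_eq]
  exact Subtype.ext (hΦ c)

end Ring

section Locus

open Groth.Agent.Divis.IdealComap Groth.Agent.Divis.EffCartier

variable {A : Type u} [CommRing A] (I : Ideal A) {X' : Scheme.{u}}
  (b : X' ⟶ Spec (CommRingCat.of A))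

/-- Chart loci and open immersions. -/
theorem chartLocus_comp {Z : Scheme.{u}} (j : Z ⟶ X') [IsOpenImmersion j] (a : A) :
    chartLocus I (j ≫ b) a = j ⁻¹ᵁ chartLocus I b a := by
  ext q
  change q ∈ chartLocus I (j ≫ b) a ↔ j q ∈ chartLocus I b a
  rw [mem_chartLocus_iff, mem_chartLocus_iff]
  constructor
  · rintro ⟨W, hqW, hW⟩
    refine ⟨⟨j ''ᵁ W.1, W.2.image_of_isOpenImmersion j⟩, ⟨q, hqW, rfl⟩, ?_⟩
    have e : W.1 ≤ j ⁻¹ᵁ (j ''ᵁ W.1) := by rw [Scheme.Hom.preimage_image_eq]
    have hiso : IsIso (j.appLE (j ''ᵁ W.1) W.1 e) := by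
      rw [← Scheme.Hom.appIso_hom']
      infer_instance
    rw [Scheme.IdealSheafData.comap_comp,
      ideal_comap ((idl I).comap b) j ⟨j ''ᵁ W.1, W.2.image_of_isOpenImmersion j⟩ W e,
      glob_comp, RingHom.comp_apply, resT_appTop j (j ''ᵁ W.1) W.1 e, ← Set.image_singleton,
      ← Ideal.map_span] at hW
    exact map_injective_of_isIso (j.appLE (j ''ᵁ W.1) W.1 e) hW
  · rintro ⟨W, hqW, hW⟩
    obtain ⟨V, hV, hqV, hVle⟩ := exists_isAffineOpen_mem_and_subset (U := j ⁻¹ᵁ W.1) (x := q) hqW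
    refine ⟨⟨V, hV⟩, hqV, ?_⟩
    rw [Scheme.IdealSheafData.comap_comp, ideal_comap ((idl I).comap b) j W ⟨V, hV⟩ hVle, hW,
      Ideal.map_span, Set.image_singleton, glob_comp, RingHom.comp_apply,
      resT_appTop j W.1 V hVle]

/-- If `q ^ 2 = p * r` with `p, r ∈ I` then the chart of `q` is contained in the chart of `p`. -/
theorem chartLocus_le_of_sq (hE : IsEffCartierIdeal ((idl I).comap b)) {p q r : A} (hp : p ∈ I)
    (hr : r ∈ I) (h : q ^ 2 = p * r) : chartLocus I b q ≤ chartLocus I b p := by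
  intro x hx
  obtain ⟨W, hxW, hW⟩ := (mem_chartLocus_iff I b q x).1 hx
  refine (mem_chartLocus_iff I b p x).2 ⟨W, hxW, ?_⟩
  have hmem : ∀ c ∈ I, resT X' W.1 (glob b c) ∈ ((idl I).comap b).ideal W := fun c hc => by
    rw [comap_idl_ideal]; exact Ideal.mem_map_of_mem _ hc
  have h1 := hmem p hp
  have h2 := hmem r hr
  rw [hW, Ideal.mem_span_singleton] at h1 h2
  obtain ⟨s, hs⟩ := h1
  obtain ⟨t, ht⟩ := h2
  have hreg := mem_nonZeroDivisors_of_ideal_eq_span hE W _ hW
  have h3 : resT X' W.1 (glob b q) ^ 2 * 1 = resT X' W.1 (glob b q) ^ 2 * (s * t) := by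
    have h4 := congrArg (fun c => resT X' W.1 (glob b c)) h
    simp only [map_mul, map_pow] at h4
    rw [hs, ht] at h4
    rw [mul_one]
    linear_combination h4
  have h5 := (mul_cancel_left_mem_nonZeroDivisors (pow_mem hreg 2)).1 h3
  have hu : IsUnit s := IsUnit.of_mul_eq_one _ h5.symm
  rw [hW, hs]
  exact (Ideal.span_singleton_mul_right_unit hu _).symm

/-- The chart of a nilpotent element is empty. -/
theorem notMem_chartLocus_of_sq_eq_zero (hE : IsEffCartierIdeal ((idl I).comap b)) {q : A}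
    (h : q ^ 2 = 0) (x : X') : x ∉ chartLocus I b q := by
  intro hx
  obtain ⟨W, hxW, hW⟩ := (mem_chartLocus_iff I b q x).1 hx
  have hreg := mem_nonZeroDivisors_of_ideal_eq_span hE W _ hW
  have h4 := congrArg (fun c => resT X' W.1 (glob b c)) h
  simp only [map_zero, map_pow] at h4
  have h5 : (1 : Γ(X', W.1)) = 0 := by
    have := pow_mem hreg 2
    rw [h4] at this
    exact (mem_nonZeroDivisors_iff_right.1 this) 1 (mul_zero _)
  have h6 : (1 : X'.presheaf.stalk x) = 0 := by
    have := congrArg (X'.presheaf.germ W.1 x hxW) h5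
    rwa [map_one, map_zero] at this
  exact one_ne_zero h6

end Locus

section Main

open Groth.Agent.Divis.IdealComap Groth.Agent.Divis.EffCartier

variable {A R : Type u} [CommRing A] [CommRing R] {I : Ideal A} {a : A} {φ : A →+* R}
  {X' : Scheme.{u}} {b : X' ⟶ Spec (CommRingCat.of A)}

/-- The chart of `Bl_I (Spec A)` at `a` is `Spec R` for any model `R` of `A[I/a]`. -/
theorem IsModel.exists_openImmersion (h : IsModel I a φ) (hb : IsBlowUp b (idl I)) (ha : a ∈ I) :
    ∃ (j : Spec (CommRingCat.of R) ⟶ X') (_ : IsOpenImmersion j),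
      j ≫ b = Spec.map (CommRingCat.ofHom φ) ∧ j.opensRange = chartLocus I b a := by
  obtain ⟨e, he⟩ := h.exists_ringEquiv
  obtain ⟨c, hc⟩ := exists_iso I b hb ha
  let s : Spec (CommRingCat.of R) ⟶ Spec (CommRingCat.of ↥(affineAlgebra A I a)) :=
    Spec.map (CommRingCat.ofHom e.toRingHom)
  have hs : IsIso s := by
    have : IsIso (CommRingCat.ofHom e.toRingHom) := (e.toCommRingCatIso).isIso_hom
    exact inferInstance
  refine ⟨s ≫ c.inv ≫ (chartLocus I b a).ι, inferInstance, ?_, ?_⟩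
  · rw [Category.assoc, Category.assoc, ← hc, Iso.inv_hom_id_assoc, ← Spec.map_comp,
      ← CommRingCat.ofHom_comp]
    congr 2
    ext x
    exact he x
  · ext x
    rw [Scheme.Hom.coe_opensRange]
    constructor
    · rintro ⟨q, rfl⟩
      exact ((s ≫ c.inv) q).2
    · intro hx
      refine ⟨(c.hom ≫ inv s) ⟨x, hx⟩, ?_⟩
      have : (c.hom ≫ inv s) ≫ s ≫ c.inv ≫ (chartLocus I b a).ι = (chartLocus I b a).ι := by simp
      exact congr($this ⟨x, hx⟩)

/-- The canonical map `R → Γ(Spec R, ⊤)`. -/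
noncomputable abbrev gam (R : Type u) [CommRing R] : R →+* Γ(Spec (CommRingCat.of R), ⊤) :=
  (Scheme.ΓSpecIso (CommRingCat.of R)).inv.hom

theorem glob_specMap_apply (φ : A →+* R) (c : A) :
    glob (Spec.map (CommRingCat.ofHom φ)) c = gam R (φ c) := by
  have h : CommRingCat.ofHom (glob (Spec.map (CommRingCat.ofHom φ))) =
      CommRingCat.ofHom φ ≫ (Scheme.ΓSpecIso (CommRingCat.of R)).inv := by
    rw [ofHom_glob, Scheme.ΓSpecIso_inv_naturality]
  exact congr($(congrArg CommRingCat.Hom.hom h) c)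

theorem regSec_gam {x : R} (hx : x ∈ nonZeroDivisors R) :
    RegSec (Spec (CommRingCat.of R)) (gam R x) := by
  apply regSec_of_affine
  intro y
  refine ⟨⟨⊤, isAffineOpen_top _⟩, trivial, ?_⟩
  have h1 : resT (Spec (CommRingCat.of R)) ⊤ (gam R x) = gam R x := by
    unfold resT
    have e : (homOfLE (le_top : (⊤ : (Spec (CommRingCat.of R)).Opens) ≤ ⊤)).op = 𝟙 _ := rfl
    rw [e]
    simp
  rw [h1]
  let e := (Scheme.ΓSpecIso (CommRingCat.of R)).symm.commRingCatIsoToRingEquiv
  exact (MulEquivClass.map_nonZeroDivisors (M₀ := R) e).le ⟨x, hx, rfl⟩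

theorem IsModel.map_eq_span (h : IsModel I a φ) (ha : a ∈ I) : I.map φ = Ideal.span {φ a} := by
  apply le_antisymm
  · rw [Ideal.map_le_iff_le_comap]
    intro x hx
    obtain ⟨r, hr⟩ := h.exists_mul x hx
    exact Ideal.mem_span_singleton.2 ⟨r, hr⟩
  · rw [Ideal.span_singleton_le_iff_mem]
    exact Ideal.mem_map_of_mem _ ha

theorem IsModel.comap_ideal (h : IsModel I a φ) (ha : a ∈ I)
    (V : (Spec (CommRingCat.of R)).affineOpens) :
    ((idl I).comap (Spec.map (CommRingCat.ofHom φ))).ideal V =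
      Ideal.span {resT _ V.1 (gam R (φ a))} := by
  rw [comap_idl_ideal]
  have h1 : ((resT _ V.1).comp (glob (Spec.map (CommRingCat.ofHom φ)))) =
      ((resT _ V.1).comp (gam R)).comp φ := by
    ext x
    change resT _ V.1 (glob (Spec.map (CommRingCat.ofHom φ)) x) = _
    rw [glob_specMap_apply]
    rfl
  rw [h1, ← Ideal.map_map, h.map_eq_span ha, Ideal.map_span, Set.image_singleton]
  rfl

theorem IsModel.isEffCartierIdeal (h : IsModel I a φ) (ha : a ∈ I) :
    IsEffCartierIdeal ((idl I).comap (Spec.map (CommRingCat.ofHom φ))) := by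
  intro y
  exact ⟨⟨⊤, isAffineOpen_top _⟩, trivial, _, (regSec_gam h.mem_nonZeroDivisors).resT_mem _,
    h.comap_ideal ha _⟩

theorem IsModel.chartLocus_specMap (h : IsModel I a φ) (ha : a ∈ I) {a' : A} {r : R}
    (hr : φ a' = φ a * r) :
    chartLocus I (Spec.map (CommRingCat.ofHom φ)) a' = PrimeSpectrum.basicOpen r := by
  have hbo : (Spec (CommRingCat.of R)).basicOpen (gam R r) = PrimeSpectrum.basicOpen r :=
    basicOpen_eq_of_affine (R := CommRingCat.of R) r
  apply le_antisymm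
  · intro q hq
    obtain ⟨W, hqW, hW⟩ := (mem_chartLocus_iff _ _ _ _).1 hq
    rw [h.comap_ideal ha, glob_specMap_apply, hr, map_mul, map_mul] at hW
    have h1 : resT _ W.1 (gam R (φ a)) ∈
        Ideal.span {resT _ W.1 (gam R (φ a)) * resT _ W.1 (gam R r)} := by
      rw [← hW]; exact Ideal.mem_span_singleton_self _
    obtain ⟨t, ht⟩ := Ideal.mem_span_singleton.1 h1
    have hreg := (regSec_gam h.mem_nonZeroDivisors).resT_mem W.1
    have h2 : resT _ W.1 (gam R (φ a)) * 1 = resT _ W.1 (gam R (φ a)) *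
        (resT _ W.1 (gam R r) * t) := by rw [mul_one, ← mul_assoc]; exact ht
    have h3 := (mul_cancel_left_mem_nonZeroDivisors hreg).1 h2
    have hu : IsUnit (resT _ W.1 (gam R r)) := IsUnit.of_mul_eq_one _ h3.symm
    have h4 : (Spec (CommRingCat.of R)).basicOpen (resT _ W.1 (gam R r)) = W.1 :=
      Scheme.basicOpen_of_isUnit _ hu
    have h5 : q ∈ (Spec (CommRingCat.of R)).basicOpen (resT _ W.1 (gam R r)) := by
      rw [h4]; exact hqW
    unfold resT at h5
    have h6 := Scheme.basicOpen_res (Spec (CommRingCat.of R)) (gam R r)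
      (homOfLE (le_top : W.1 ≤ ⊤)).op
    have h7 : q ∈ W.1 ⊓ (Spec (CommRingCat.of R)).basicOpen (gam R r) := by
      rw [← h6]; exact h5
    rw [← hbo]
    exact h7.2
  · rw [← hbo]
    refine le_trans ?_ (basicOpen_le_chartLocus I (Spec.map (CommRingCat.ofHom φ)) a'
      ⟨⊤, isAffineOpen_top _⟩ (resT _ ⊤ (gam R (φ a))) (resT _ ⊤ (gam R r))
      (h.comap_ideal ha _) ?_)
    · have h6 := Scheme.basicOpen_res (Spec (CommRingCat.of R)) (gam R r)
        (homOfLE (le_top : (⊤ : (Spec (CommRingCat.of R)).Opens) ≤ ⊤)).op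
      rw [top_inf_eq] at h6
      exact h6.ge
    · change resT _ ⊤ (glob (Spec.map (CommRingCat.ofHom φ)) a') = _
      rw [glob_specMap_apply, hr, map_mul, map_mul]

/-- The overlap of two charts. -/
theorem IsModel.preimage_chartLocus (h : IsModel I a φ) (ha : a ∈ I)
    (j : Spec (CommRingCat.of R) ⟶ X') [IsOpenImmersion j]
    (hj : j ≫ b = Spec.map (CommRingCat.ofHom φ)) {a' : A} {r : R} (hr : φ a' = φ a * r) :
    j ⁻¹ᵁ chartLocus I b a' = PrimeSpectrum.basicOpen r := by
  rw [← chartLocus_comp, hj]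
  exact h.chartLocus_specMap ha hr

end Main

section TwoCharts

variable {A R₁ R₂ : Type u} [CommRing A] [CommRing R₁] [CommRing R₂] {I : Ideal A} {a₁ a₂ : A}
  {φ₁ : A →+* R₁} {φ₂ : A →+* R₂} {X' : Scheme.{u}} {b : X' ⟶ Spec (CommRingCat.of A)}

/-- Two charts which cover the blow-up: the charts are open immersions and the overlap is a basic
open in each of them. -/
theorem exists_two_charts (hb : IsBlowUp b (idl I)) (h₁ : IsModel I a₁ φ₁) (h₂ : IsModel I a₂ φ₂)
    (ha₁ : a₁ ∈ I) (ha₂ : a₂ ∈ I) (hcov : chartLocus I b a₁ ⊔ chartLocus I b a₂ = ⊤)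
    {r : R₁} (hr : φ₁ a₂ = φ₁ a₁ * r) {s : R₂} (hs : φ₂ a₁ = φ₂ a₂ * s) :
    ∃ (j₁ : Spec (CommRingCat.of R₁) ⟶ X') (j₂ : Spec (CommRingCat.of R₂) ⟶ X')
      (_ : IsOpenImmersion j₁) (_ : IsOpenImmersion j₂),
      j₁ ≫ b = Spec.map (CommRingCat.ofHom φ₁) ∧ j₂ ≫ b = Spec.map (CommRingCat.ofHom φ₂) ∧
      j₁.opensRange ⊔ j₂.opensRange = ⊤ ∧
      j₁ ⁻¹ᵁ j₂.opensRange = PrimeSpectrum.basicOpen r ∧
      j₂ ⁻¹ᵁ j₁.opensRange = PrimeSpectrum.basicOpen s := by
  obtain ⟨j₁, i₁, hj₁, hr₁⟩ := h₁.exists_openImmersion hb ha₁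
  obtain ⟨j₂, i₂, hj₂, hr₂⟩ := h₂.exists_openImmersion hb ha₂
  refine ⟨j₁, j₂, i₁, i₂, hj₁, hj₂, by rw [hr₁, hr₂, hcov], ?_, ?_⟩
  · rw [hr₂, h₁.preimage_chartLocus ha₁ j₁ hj₁ hr]
  · rw [hr₁, h₂.preimage_chartLocus ha₂ j₂ hj₂ hs]

/-- The cover of the blow-up in `I = (p, q, r, e)` with `q² = p r`, `e² = 0` by the charts of
`p` and `r`. -/
theorem chartLocus_sup_eq_top (hE : IsEffCartierIdeal ((idl I).comap b)) {p q r e : A}
    (hI : I = Ideal.span {p, q, r, e}) (hq : q ^ 2 = p * r) (he : e ^ 2 = 0) :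
    chartLocus I b p ⊔ chartLocus I b r = ⊤ := by
  have hp : p ∈ I := by rw [hI]; exact Ideal.subset_span (by simp)
  have hr : r ∈ I := by rw [hI]; exact Ideal.subset_span (by simp)
  rw [eq_top_iff]
  intro x _
  obtain ⟨c, hc, hx⟩ := exists_mem_chartLocus_of_span I b hE hI x
  simp only [Set.mem_insert_iff, Set.mem_singleton_iff] at hc
  rcases hc with rfl | rfl | rfl | rfl
  · exact Or.inl hx
  · exact Or.inl (chartLocus_le_of_sq I b hE hp hr hq hx)
  · exact Or.inr hx
  · exact absurd hx (notMem_chartLocus_of_sq_eq_zero I b hE he x)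

end TwoCharts

end Groth.Agent.Refuted.K390.ChartModel
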