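import Groth.Agent.Sga2lef.H338.StalkDepth
import Mathlib.Algebra.TrivSqZeroExt.Basic
import Mathlib.RingTheory.FiniteType

/-!
# Excellence of the affine opens of schemes locally of finite type over a field

Used by the refutations of S15710, S15711, S15718 (two chart model over
`T = TrivSqZeroExt P (P × P)`, `P = MvPolynomial (Fin 2) k`).
-/

set_option autoImplicit false
universe u

open CategoryTheory CategoryTheory.Limits AlgebraicGeometry

namespace Groth.Agent.Refuted.K390.Exc

section Field

variable (k : Type u) [Field k]

/-- A finite type algebra over a field is excellent. -/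
theorem isExcellent_of_finiteType (B : Type u) [CommRing B] [Algebra k B] [Algebra.FiniteType k B] :
    EGA4.IsExcellent B :=
  Groth.Agent.S2651.result k (Groth.Agent.Sga2lef.H338.StalkDepth.isExcellent_field k) B

/-- All affine opens of a scheme locally of finite type over a field are excellent. -/
theorem isExcellent_affineOpens {X : Scheme.{u}} (f : X ⟶ Spec (CommRingCat.of k))
    [LocallyOfFiniteType f] (V : X.affineOpens) : EGA4.IsExcellent Γ(X, V.1) := by
  have hft : (f.appLE ⊤ V.1 le_top).hom.FiniteType :=
    HasRingHomProperty.appLE (P := @LocallyOfFiniteType) f inferInstance ⟨⊤, isAffineOpen_top _⟩ V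
      le_top
  have h0 : EGA4.IsExcellent Γ(Spec (CommRingCat.of k), ⊤) :=
    Groth.Agent.Sga2lef.H338.StalkDepth.isExcellent_of_ringEquiv
      (Scheme.ΓSpecIso (CommRingCat.of k)).symm.commRingCatIsoToRingEquiv
      (Groth.Agent.Sga2lef.H338.StalkDepth.isExcellent_field k)
  let _ : Algebra Γ(Spec (CommRingCat.of k), ⊤) Γ(X, V.1) :=
    (f.appLE ⊤ V.1 le_top).hom.toAlgebra
  have : Algebra.FiniteType Γ(Spec (CommRingCat.of k), ⊤) Γ(X, V.1) := hft
  exact Groth.Agent.S2651.result _ h0 _

end Field

/-- All affine opens of a scheme locally of finite type over `Spec B`, `B` of finite type over a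
field, are excellent. -/
theorem isExcellent_affineOpens_of_algebra (k : Type u) [Field k] (B : Type u) [CommRing B]
    [Algebra k B] [Algebra.FiniteType k B] {X : Scheme.{u}} (f : X ⟶ Spec (CommRingCat.of B))
    [LocallyOfFiniteType f] (V : X.affineOpens) : EGA4.IsExcellent Γ(X, V.1) := by
  have hg : LocallyOfFiniteType (Spec.map (CommRingCat.ofHom (algebraMap k B))) := by
    rw [HasRingHomProperty.Spec_iff (P := @LocallyOfFiniteType)]
    exact (RingHom.finiteType_algebraMap (A := k) (B := B)).2 inferInstance
  exact isExcellent_affineOpens k (f ≫ Spec.map (CommRingCat.ofHom (algebraMap k B))) V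

section Tsz

variable (P : Type u) [CommRing P]

/-- `TrivSqZeroExt P (P × P)` is free over `P`. -/
instance free_tsz : Module.Free P (TrivSqZeroExt P (P × P)) :=
  inferInstanceAs (Module.Free P (P × (P × P)))

instance finite_tsz : Module.Finite P (TrivSqZeroExt P (P × P)) :=
  inferInstanceAs (Module.Finite P (P × (P × P)))

instance isNoetherianRing_tsz [IsNoetherianRing P] : IsNoetherianRing (TrivSqZeroExt P (P × P)) :=
  IsNoetherianRing.of_finite P _

variable (k : Type u) [Field k] [Algebra k P] [Algebra.FiniteType k P]

instance finiteType_tsz : Algebra.FiniteType k (TrivSqZeroExt P (P × P)) :=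
  Algebra.FiniteType.trans (S := P) inferInstance inferInstance

end Tsz

end Groth.Agent.Refuted.K390.Exc
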