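import Groth.Agent.Refuted.K390.Chart

/-!
# Node G4: the overlap of two charts of a blow-up
-/

set_option autoImplicit false
universe u

open CategoryTheory AlgebraicGeometry Limits BlowUp

namespace Groth.Agent.Refuted.K390

open Groth.Agent.Divis Groth.Agent.Divis.BlowChart Groth.Agent.Refuted.K826 ChartModel

variable {A C₁ C₂ C₁₂ : Type u} [CommRing A] [CommRing C₁] [CommRing C₂] [CommRing C₁₂]
  {I : Ideal A} {X : Scheme.{u}} {b : X ⟶ Spec (CommRingCat.of A)}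

/-- G4 -/
theorem isPullback_charts (hb : IsBlowUp b (idl I)) {a₁ a₂ : A} {φ₁ : A →+* C₁} {φ₂ : A →+* C₂}
    (h₁ : IsChart I a₁ φ₁) (w : C₁) (hw : φ₁ a₂ = φ₁ a₁ * w)
    [Algebra C₁ C₁₂] [IsLocalization.Away w C₁₂] (r : C₂ →+* C₁₂)
    (hr : r.comp φ₂ = (algebraMap C₁ C₁₂).comp φ₁)
    (j₁ : Spec (CommRingCat.of C₁) ⟶ X) (j₂ : Spec (CommRingCat.of C₂) ⟶ X) [IsOpenImmersion j₁]
    [IsOpenImmersion j₂] (hj₁ : j₁ ≫ b = Spec.map (CommRingCat.ofHom φ₁))
    (hj₂ : j₂ ≫ b = Spec.map (CommRingCat.ofHom φ₂)) (hr₂ : j₂.opensRange = chartLocus I b a₂) :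
    IsPullback (Spec.map (CommRingCat.ofHom (algebraMap C₁ C₁₂)))
      (Spec.map (CommRingCat.ofHom r)) j₁ j₂ := by
  have hi : IsOpenImmersion (Spec.map (CommRingCat.ofHom (algebraMap C₁ C₁₂))) :=
    IsOpenImmersion.of_isLocalization w
  have hcomm : Spec.map (CommRingCat.ofHom (algebraMap C₁ C₁₂)) ≫ j₁ =
      Spec.map (CommRingCat.ofHom r) ≫ j₂ := by
    have hE : IsEffCartierIdeal ((idl I).comap
        (Spec.map (CommRingCat.ofHom (algebraMap C₁ C₁₂)) ≫ j₁ ≫ b)) := by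
      rw [Scheme.IdealSheafData.comap_comp, hj₁]
      exact EffCartier.isEff_comap_flat (isEffCartierIdeal h₁) _
    obtain ⟨_, -, huniq⟩ := hb.2 _ _ hE
    rw [huniq (Spec.map (CommRingCat.ofHom (algebraMap C₁ C₁₂)) ≫ j₁) (Category.assoc _ _ _)]
    refine (huniq _ ?_).symm
    change (Spec.map (CommRingCat.ofHom r) ≫ j₂) ≫ b = _
    rw [Category.assoc, hj₁, hj₂, ← Spec.map_comp, ← Spec.map_comp, ← CommRingCat.ofHom_comp,
      ← CommRingCat.ofHom_comp, hr]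
  have hrange : j₁ ⁻¹ᵁ j₂.opensRange =
      (Spec.map (CommRingCat.ofHom (algebraMap C₁ C₁₂))).opensRange := by
    rw [hr₂, preimage_chartLocus h₁ j₁ hj₁ hw]
    refine TopologicalSpace.Opens.ext ?_
    exact (PrimeSpectrum.localization_away_comap_range C₁₂ w).symm
  exact (IsOpenImmersion.isPullback _ _ _ _ hcomm hrange).flip

end Groth.Agent.Refuted.K390
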